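import Mathlib.Algebra.Polynomial.Roots
import Mathlib.Analysis.Polynomial.Basic
import Mathlib.Data.Real.Archimedean
import Mathlib.Topology.Algebra.Polynomial
import Mathlib.Topology.Order.Compact
import Mathlib.Topology.Instances.Real.Lemmas
import Mathlib.Tactic

/-!
# Jumps of an index at the roots of a homogeneous polynomial

An index `ι n m` attached to the rational numbers `m / n` which are not roots of a polynomial `P` of degree at most
`g`, and whose changes force smallness of `|P|`, is constant between the roots and drops by at most the multiplicity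
at each of them.
-/

set_option autoImplicit false
set_option maxHeartbeats 1000000

noncomputable section

namespace IdxRootLib

open Polynomial

/-- An index on the rational non-roots of `P`. -/
structure IndexData (P : ℝ[X]) (g : ℕ) where
  ι : ℕ → ℤ → ℕ
  le : ∀ (n : ℕ) (m : ℤ), 0 < n → P.eval ((m : ℝ) / n) ≠ 0 → ι n m ≤ g
  scale : ∀ (l n : ℕ) (m : ℤ), 0 < l → 0 < n → P.eval ((m : ℝ) / n) ≠ 0 → ι (l * n) ((l : ℤ) * m) = ι n m
  step : 0 < g → ∃ c C : ℕ, 0 < c ∧ ∀ (n : ℕ) (m : ℤ), 0 < n → P.eval ((m : ℝ) / n) ≠ 0 →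
    P.eval (((m + c : ℤ) : ℝ) / n) ≠ 0 → ι n (m + c) ≠ ι n m →
    |P.eval ((m : ℝ) / n)| * (n : ℝ) ^ g ≤ C * ((n : ℝ) + |(m : ℝ)| + 1) ^ (g - 1)
  iter : ∀ r : ℕ, ∃ S C : ℕ, ∀ (n : ℕ) (m : ℤ), 0 < n → P.eval ((m : ℝ) / n) ≠ 0 → r ≤ ι n m →
    (∀ s : ℕ, 3 ≤ s → s ≤ S → P.eval (((m + s : ℤ) : ℝ) / n) ≠ 0 ∧ ι n (m + s) + r ≤ ι n m) →
    |P.eval ((m : ℝ) / n)| * (n : ℝ) ^ g ≤ C * ((n : ℝ) + |(m : ℝ)| + 1) ^ (g - r)

variable {P : ℝ[X]} {g : ℕ}

namespace IndexData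

variable (D : IndexData P g)

/-- The index does not change on an interval without roots. -/
theorem eq_of_ne_zero {α β : ℝ} (h : ∀ t ∈ Set.Icc α β, P.eval t ≠ 0) {n n' : ℕ} (hn : 0 < n) (hn' : 0 < n')
    {m m' : ℤ} (hm : (m : ℝ) / n ∈ Set.Icc α β) (hm' : (m' : ℝ) / n' ∈ Set.Icc α β) : D.ι n m = D.ι n' m' := by
  rcases Nat.eq_zero_or_pos g with rfl | hg
  · have := D.le n m hn (h _ hm); have := D.le n' m' hn' (h _ hm'); omega
  obtain ⟨c, C, hc, hstep⟩ := D.step hg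
  obtain ⟨t₀, ht₀, hmin⟩ := isCompact_Icc.exists_isMinOn ⟨_, hm⟩ (P.continuous.abs.continuousOn (s := Set.Icc α β))
  have hδ : 0 < |P.eval t₀| := abs_pos.2 (h t₀ ht₀)
  set K : ℝ := max |α| |β| + 2 with hK
  obtain ⟨l₀, hl₀⟩ := exists_nat_gt ((C : ℝ) * K ^ (g - 1) / |P.eval t₀|)
  set l := c * (l₀ + 1) with hl
  have hl0 : 0 < l := Nat.mul_pos hc l₀.succ_pos
  set N := n * n' * l with hN
  have hN0 : 0 < N := Nat.mul_pos (Nat.mul_pos hn hn') hl0
  have hNl : (l₀ : ℝ) < N := by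
    have : l₀ + 1 ≤ N := le_trans (Nat.le_mul_of_pos_left _ hc) (Nat.le_mul_of_pos_left _ (Nat.mul_pos hn hn'))
    exact_mod_cast (by omega : l₀ < N)
  have hNR : (0 : ℝ) < N := by exact_mod_cast hN0
  -- one step
  have one : ∀ t : ℤ, (t : ℝ) / N ∈ Set.Icc α β → ((t + c : ℤ) : ℝ) / N ∈ Set.Icc α β →
      D.ι N (t + c) = D.ι N t := by
    intro t ht ht'
    by_contra hne
    have h1 := hstep N t hN0 (h _ ht) (h _ ht') hne
    have h2 : |P.eval t₀| ≤ |P.eval ((t : ℝ) / N)| := hmin ht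
    have h3 : (N : ℝ) + |(t : ℝ)| + 1 ≤ K * N := by
      have h4 : |(t : ℝ) / N| ≤ max |α| |β| := abs_le_max_abs_abs ht.1 ht.2
      rw [abs_div, abs_of_pos hNR, div_le_iff₀ hNR] at h4
      have : (1 : ℝ) ≤ N := by exact_mod_cast hN0
      rw [hK]; linarith
    have h5 : |P.eval t₀| * (N : ℝ) ^ g ≤ C * K ^ (g - 1) * (N : ℝ) ^ (g - 1) := by
      refine ((mul_le_mul_of_nonneg_right h2 (by positivity)).trans h1).trans ?_
      rw [mul_assoc, ← mul_pow]
      exact mul_le_mul_of_nonneg_left (pow_le_pow_left₀ (by positivity) h3 _) (by positivity)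
    rw [show (N : ℝ) ^ g = N * (N : ℝ) ^ (g - 1) from (mul_pow_sub_one hg.ne' _).symm, ← mul_assoc] at h5
    have h6 := le_of_mul_le_mul_right h5 (by positivity)
    rw [div_lt_iff₀ hδ] at hl₀
    nlinarith
  have walkUp : ∀ (a : ℤ) (j : ℕ), (a : ℝ) / N ∈ Set.Icc α β → ((a + (j * c : ℕ) : ℤ) : ℝ) / N ∈ Set.Icc α β →
      D.ι N (a + (j * c : ℕ)) = D.ι N a := by
    intro a j
    induction j with
    | zero => intro _ _; simp
    | succ j ih =>
      intro ha hb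
      have e : a + (((j + 1) * c : ℕ) : ℤ) = a + ((j * c : ℕ) : ℤ) + c := by push_cast; ring
      have hmid : ((a + (j * c : ℕ) : ℤ) : ℝ) / N ∈ Set.Icc α β := by
        refine ⟨ha.1.trans ?_, le_trans ?_ hb.2⟩ <;> gcongr <;> first | (norm_num; positivity) | (norm_num)
      rw [e] at hb ⊢
      rw [one _ hmid hb, ih ha hmid]
  set a : ℤ := (n' * l : ℕ) * m with ha
  set b : ℤ := (n * l : ℕ) * m' with hb
  have ea : (a : ℝ) / N = (m : ℝ) / n := by
    have : (n : ℝ) ≠ 0 := by positivity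
    have : (n' : ℝ) * l ≠ 0 := by positivity
    rw [ha, hN]; push_cast
    field_simp
  have eb : (b : ℝ) / N = (m' : ℝ) / n' := by
    have : (n' : ℝ) ≠ 0 := by positivity
    have : (n : ℝ) * l ≠ 0 := by positivity
    rw [hb, hN]; push_cast
    field_simp
  have sa : D.ι N a = D.ι n m := by
    rw [ha, show N = n' * l * n by rw [hN]; ring]
    exact D.scale _ n m (Nat.mul_pos hn' hl0) hn (h _ hm)
  have sb : D.ι N b = D.ι n' m' := by
    rw [hb, show N = n * l * n' by rw [hN]; ring]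
    exact D.scale _ n' m' (Nat.mul_pos hn hl0) hn' (h _ hm')
  obtain ⟨w, hw⟩ : (c : ℤ) ∣ b - a := by
    refine dvd_sub ?_ ?_ <;> (simp only [ha, hb, hl]; push_cast) <;>
      exact Dvd.dvd.mul_right (Dvd.dvd.mul_left (Dvd.intro _ rfl) _) _
  rw [← sa, ← sb]
  rcases Int.natAbs_eq w with e | e
  · have e' : b = a + ((w.natAbs * c : ℕ) : ℤ) := by rw [Nat.cast_mul, mul_comm, ← e]; omega
    rw [e']
    exact (walkUp a _ (ea ▸ hm) (e' ▸ eb ▸ hm')).symm
  · have e' : a = b + ((w.natAbs * c : ℕ) : ℤ) := by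
      rw [Nat.cast_mul, mul_comm, show (w.natAbs : ℤ) = -w by omega, mul_neg]; omega
    rw [e']
    exact walkUp b _ (eb ▸ hm') (e' ▸ ea ▸ hm)

/-- The drop at a single root is at most its multiplicity. -/
theorem le_add_rootMultiplicity (hP : P ≠ 0) {α β τ : ℝ} (hατ : α < τ) (hτβ : τ < β)
    (h : ∀ t ∈ Set.Icc α β, t ≠ τ → P.eval t ≠ 0) {n n' : ℕ} (hn : 0 < n) (hn' : 0 < n') {m m' : ℤ}
    (hm : (m : ℝ) / n ∈ Set.Ico α τ) (hm' : (m' : ℝ) / n' ∈ Set.Ioc τ β) :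
    D.ι n m ≤ D.ι n' m' + P.rootMultiplicity τ := by
  set μ := P.rootMultiplicity τ
  by_contra hcon
  obtain ⟨G, hPG, hG⟩ := exists_eq_pow_rootMultiplicity_mul_and_not_dvd P hP τ
  rw [dvd_iff_isRoot] at hG
  obtain ⟨t₀, ht₀, hmin⟩ := isCompact_Icc.exists_isMinOn ⟨τ, hατ.le, hτβ.le⟩
    (G.continuous.abs.continuousOn (s := Set.Icc α β))
  have heval : ∀ t : ℝ, P.eval t = (t - τ) ^ μ * G.eval t := fun t => by
    conv_lhs => rw [hPG]
    simp [μ]
  have hδ : 0 < |G.eval t₀| := by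
    refine abs_pos.2 fun h0 => ?_
    by_cases ht : t₀ = τ
    · exact hG (ht ▸ h0)
    · exact h t₀ ht₀ ht (by rw [heval, h0, mul_zero])
  obtain ⟨S, C, hiter⟩ := D.iter (μ + 1)
  set K : ℝ := |τ| + 5 with hK
  obtain ⟨N, hN⟩ := exists_nat_gt (max ((C : ℝ) * K ^ (g - (μ + 1)) / |G.eval t₀|)
    (max (2 / (τ - α)) (((S : ℝ) + 1) / (β - τ))))
  simp only [max_lt_iff] at hN
  obtain ⟨hN1, hN2, hN3⟩ := hN
  have hτα : 0 < τ - α := sub_pos.2 hατ
  have hNR : (0 : ℝ) < N := lt_trans (by positivity) hN2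
  have hN0 : 0 < N := by exact_mod_cast hNR
  have hN1' : (1 : ℝ) ≤ N := by exact_mod_cast hN0
  rw [div_lt_iff₀ hδ] at hN1
  rw [div_lt_iff₀ hτα] at hN2
  rw [div_lt_iff₀ (sub_pos.2 hτβ)] at hN3
  set M : ℤ := ⌈(N : ℝ) * τ⌉ - 2 with hM
  have hM1 : (M : ℝ) < N * τ - 1 := by
    rw [hM]; push_cast; linarith [Int.ceil_lt_add_one ((N : ℝ) * τ)]
  have hM2 : (N : ℝ) * τ - 2 ≤ M := by
    rw [hM]; push_cast; linarith [Int.le_ceil ((N : ℝ) * τ)]
  have hMl : (M : ℝ) / N ∈ Set.Ico α τ := ⟨(le_div_iff₀ hNR).2 (by nlinarith), (div_lt_iff₀ hNR).2 (by linarith)⟩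
  have hMr : ∀ s : ℕ, 3 ≤ s → s ≤ S → ((M + s : ℤ) : ℝ) / N ∈ Set.Ioc τ β := by
    intro s hs hsS
    have h3 : (3 : ℝ) ≤ s := by exact_mod_cast hs
    have h4 : (s : ℝ) ≤ S := by exact_mod_cast hsS
    push_cast
    exact ⟨(lt_div_iff₀ hNR).2 (by linarith), (div_le_iff₀ hNR).2 (by nlinarith)⟩
  have hne : ∀ t ∈ Set.Ico α τ ∪ Set.Ioc τ β, P.eval t ≠ 0 := by
    rintro t (ht | ht)
    · exact h t ⟨ht.1, ht.2.le.trans hτβ.le⟩ ht.2.ne
    · exact h t ⟨hατ.le.trans ht.1.le, ht.2⟩ ht.1.ne'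
  have hleft : D.ι N M = D.ι n m :=
    D.eq_of_ne_zero (α := α) (β := max ((M : ℝ) / N) ((m : ℝ) / n))
      (fun t ht => hne t (Or.inl ⟨ht.1, ht.2.trans_lt (max_lt hMl.2 hm.2)⟩)) hN0 hn
      ⟨hMl.1, le_max_left _ _⟩ ⟨hm.1, le_max_right _ _⟩
  have hright : ∀ s : ℕ, 3 ≤ s → s ≤ S → D.ι N (M + s) = D.ι n' m' := fun s hs hsS =>
    D.eq_of_ne_zero (α := min (((M + s : ℤ) : ℝ) / N) ((m' : ℝ) / n')) (β := β)
      (fun t ht => hne t (Or.inr ⟨(lt_min (hMr s hs hsS).1 hm'.1).trans_le ht.1, ht.2⟩)) hN0 hn'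
      ⟨min_le_left _ _, (hMr s hs hsS).2⟩ ⟨min_le_right _ _, hm'.2⟩
  have hrg : μ + 1 ≤ g := by
    have := D.le n m hn (hne _ (Or.inl hm)); omega
  have h1 := hiter N M hN0 (hne _ (Or.inl hMl)) (by rw [hleft]; omega) fun s hs hsS =>
    ⟨hne _ (Or.inr (hMr s hs hsS)), by rw [hleft, hright s hs hsS]; omega⟩
  have h2 : |G.eval t₀| * (1 / (N : ℝ)) ^ μ ≤ |P.eval ((M : ℝ) / N)| := by
    rw [heval, abs_mul, abs_pow, mul_comm]
    refine mul_le_mul (pow_le_pow_left₀ (by positivity) ?_ _) (hmin ⟨hMl.1, hMl.2.le.trans hτβ.le⟩)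
      (abs_nonneg _) (by positivity)
    rw [abs_of_neg (sub_neg.2 hMl.2), neg_sub, le_sub_iff_add_le, ← add_div, div_le_iff₀ hNR]
    linarith
  have h3 : (N : ℝ) + |(M : ℝ)| + 1 ≤ K * N := by
    have h4 : |(N : ℝ) * τ| = N * |τ| := by rw [abs_mul, abs_of_pos hNR]
    have h5 : |(M : ℝ)| ≤ N * |τ| + 2 := by
      rw [← h4, abs_le]; constructor <;> cases abs_cases ((N : ℝ) * τ) <;> linarith
    rw [hK]; nlinarith [abs_nonneg τ]
  have h6 : |G.eval t₀| * (1 / (N : ℝ)) ^ μ * (N : ℝ) ^ g ≤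
      C * K ^ (g - (μ + 1)) * (N : ℝ) ^ (g - (μ + 1)) := by
    refine ((mul_le_mul_of_nonneg_right h2 (by positivity)).trans h1).trans ?_
    rw [mul_assoc, ← mul_pow]
    exact mul_le_mul_of_nonneg_left (pow_le_pow_left₀ (by positivity) h3 _) (by positivity)
  rw [show (N : ℝ) ^ g = (N : ℝ) ^ μ * N * (N : ℝ) ^ (g - (μ + 1)) by
    rw [← pow_succ, ← pow_add, Nat.add_sub_cancel' hrg], ← mul_assoc, mul_assoc |G.eval t₀|, ← mul_assoc ((1 / (N : ℝ)) ^ μ),
    ← mul_pow, one_div_mul_cancel hNR.ne', one_pow, one_mul] at h6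
  have := le_of_mul_le_mul_right h6 (by positivity)
  linarith [mul_comm |G.eval t₀| (N : ℝ)]

/-- The drop between two non-roots is at most the number of roots between them. -/
theorem le_add_card (hP : P ≠ 0) {n n' : ℕ} (hn : 0 < n) (hn' : 0 < n') {m m' : ℤ}
    (hlt : (m : ℝ) / n < (m' : ℝ) / n') (h0 : P.eval ((m : ℝ) / n) ≠ 0) (h0' : P.eval ((m' : ℝ) / n') ≠ 0) :
    D.ι n m ≤ D.ι n' m' +
      (P.roots.filter fun t => (m : ℝ) / n < t ∧ t < (m' : ℝ) / n').card := by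
  classical
  generalize hk : (P.roots.filter fun t => (m : ℝ) / n < t ∧ t < (m' : ℝ) / n').card = k
  induction k using Nat.strong_induction_on generalizing n m with
  | _ k ih =>
  set y := (m' : ℝ) / n'
  set x := (m : ℝ) / n with hx
  set R := (P.roots.filter fun t => x < t ∧ t < y) with hR
  rcases R.toFinset.eq_empty_or_nonempty with he | hne
  · refine (le_of_eq (D.eq_of_ne_zero (α := x) (β := y) (fun t ht h => ?_) hn hn'
      ⟨le_rfl, hlt.le⟩ ⟨hlt.le, le_rfl⟩)).trans (Nat.le_add_right _ _)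
    have h1 : t ≠ x := fun e => h0 (e ▸ h)
    have h2 : t ≠ y := fun e => h0' (e ▸ h)
    have : t ∈ R.toFinset := Multiset.mem_toFinset.2 (Multiset.mem_filter.2
      ⟨(mem_roots hP).2 h, lt_of_le_of_ne ht.1 h1.symm, lt_of_le_of_ne ht.2 h2⟩)
    rw [he] at this; exact Finset.notMem_empty t this
  set τ := R.toFinset.min' hne with hτdef
  have hτR : τ ∈ R := Multiset.mem_toFinset.1 (R.toFinset.min'_mem hne)
  obtain ⟨-, hxτ, hτy⟩ := Multiset.mem_filter.1 hτR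
  set F := insert y (R.toFinset.filter fun t => τ < t)
  have hFne : F.Nonempty := Finset.insert_nonempty _ _
  have hτF : τ < F.min' hFne := by
    rw [Finset.lt_min'_iff]
    intro t ht
    rcases Finset.mem_insert.1 ht with rfl | ht
    · exact hτy
    · exact (Finset.mem_filter.1 ht).2
  obtain ⟨q, hq1, hq2⟩ := exists_rat_btwn hτF
  have hqy : (q : ℝ) < y := hq2.trans_le (F.min'_le _ (Finset.mem_insert_self _ _))
  have eq' : ((q.num : ℤ) : ℝ) / (q.den : ℕ) = (q : ℝ) := (Rat.cast_def q).symm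
  have hroot : ∀ t, x < t → t < y → P.eval t = 0 → t = τ ∨ (q : ℝ) < t := by
    intro t h1 h2 ht
    have htR : t ∈ R.toFinset := Multiset.mem_toFinset.2 (Multiset.mem_filter.2 ⟨(mem_roots hP).2 ht, h1, h2⟩)
    rcases (R.toFinset.min'_le t htR).eq_or_lt with h | h
    · exact Or.inl h.symm
    · exact Or.inr (hq2.trans_le (F.min'_le _ (Finset.mem_insert_of_mem (Finset.mem_filter.2 ⟨htR, h⟩))))
  have hq0 : P.eval (q : ℝ) ≠ 0 := fun h => by
    rcases hroot q (hxτ.trans hq1) hqy h with h' | h'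
    · exact hq1.ne' h'
    · exact lt_irrefl _ h'
  have h1 : D.ι n m ≤ D.ι q.den q.num + P.rootMultiplicity τ :=
    D.le_add_rootMultiplicity hP hxτ hq1 (fun t ht htne h => by
      rcases eq_or_lt_of_le ht.1 with h' | h'
      · exact h0 (h' ▸ h)
      · rcases hroot t h' (ht.2.trans_lt hqy) h with h'' | h''
        · exact htne h''
        · exact absurd ht.2 (not_le.2 h''))
      hn q.den_pos ⟨le_rfl, hxτ⟩ (by rw [eq']; exact ⟨hq1, le_rfl⟩)
  set R' := (P.roots.filter fun t => ((q.num : ℤ) : ℝ) / (q.den : ℕ) < t ∧ t < y) with hR'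
  have hcard : P.rootMultiplicity τ + R'.card ≤ k := by
    rw [← hk, ← Multiset.card_replicate (P.rootMultiplicity τ) τ, ← Multiset.card_add]
    refine Multiset.card_le_card (Multiset.le_iff_count.2 fun t => ?_)
    rw [Multiset.count_add, Multiset.count_replicate, hR', eq', Multiset.count_filter, hR, Multiset.count_filter]
    by_cases ht : τ = t
    · subst ht
      rw [if_pos rfl, if_neg (fun h => lt_irrefl _ (h.1.trans hq1)), if_pos ⟨hxτ, hτy⟩, add_zero, count_roots]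
    · rw [if_neg ht, zero_add]
      split_ifs with h h' <;> first | exact le_rfl | exact Nat.zero_le _ | exact absurd ⟨hxτ.trans (hq1.trans h.1), h.2⟩ h'
  have hμ : 0 < P.rootMultiplicity τ := by
    rw [← count_roots]; exact Multiset.count_pos.2 (Multiset.mem_of_mem_filter hτR)
  have h2 := ih R'.card (by omega) q.den_pos (show ((q.num : ℤ) : ℝ) / (q.den : ℕ) < y by rw [eq']; exact hqy)
    (by rw [eq']; exact hq0) rfl
  omega

end IndexData

end IdxRootLib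

end
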