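import Groth.Agent.IdxRootLib.Bound
import Groth.Agent.IdxRootLib.Roots
import Groth.Agent.AVIndexLib.FieldExt
import Groth.Agent.AVIndexLib.MumfordEuler
import Groth.Agent.AVRRLib.RR
import Groth.Agent.HilbPolyLib.BaseField
import Groth.Agent.MiscFlat6.AmpleGen

/-!
# The index along the pencil `n L + m H` of an ample module `H`
-/

set_option autoImplicit false
set_option maxHeartbeats 1000000
set_option maxRecDepth 8000
set_option backward.isDefEq.respectTransparency false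
set_option linter.style.haveILetI false
set_option linter.unusedSectionVars false

noncomputable section

universe u

open CategoryTheory CategoryTheory.Limits MonoidalCategory CartesianMonoidalCategory MonObj AlgebraicGeometry
open CubeConsLib AVAmpleLib AVVanishLib
open AVIndexLib (Conc prBc)

namespace IdxRootLib

theorem exists_ample_twist {Y : Scheme.{u}} {L H : Y.Modules} (hL : PicF.IsInvertible L) (hH : CohB1.IsAmple H) :
    ∃ (e : ℕ) (A : Y.Modules) (hA : CohB1.IsAmple A), clA hA.1 = clA hL + e • clA hH.1 := by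
  obtain ⟨N, hN⟩ := MiscFlat6.exists_gen_twist hH hL
  have hP := AmpleThLib.tensorPow_isInvertible hH.1 N
  have hPL := HilbPolyLib.isInvertible_tensor hP hL
  have hA := MiscFlat6.isAmple_tensor_of_generated hH hPL fun x => by
    obtain ⟨σ, hσ⟩ := hN N le_rfl x
    refine ⟨1, _, one_pos, ⟨AmpleThLib.pS σ 1, rfl⟩, ?_⟩
    rw [AmpleThLib.genSet_pS hPL σ one_pos]
    exact hσ
  refine ⟨N + 1, _, hA, ?_⟩
  rw [show clA hA.1 = _ from clA_tensor hH.1 hPL, clA_tensor hP hL, clA_pow hH.1, succ_nsmul]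
  abel

variable {k : Type u} [Field k]

section AV

variable {X : Over (Spec (CommRingCat.of k))} [GrpObj X] [IsProper X.hom] [GeometricallyIntegral X.hom]

variable (X) in
theorem exists_dim : ∃ g : ℕ, topologicalKrullDim X.left = (g : ℕ) := by
  haveI : GrpObj ((bcF (AlgebraicClosure k)).obj X) := Functor.grpObjObj
  haveI : IsProper ((bcF (AlgebraicClosure k)).obj X).hom :=
    inferInstanceAs (IsProper (pullback.snd X.hom _))
  haveI : Nonempty ((bcF (AlgebraicClosure k)).obj X).left := by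
    obtain ⟨x⟩ : Nonempty (Spec (CommRingCat.of (AlgebraicClosure k))) := inferInstance
    exact ⟨(η[(bcF (AlgebraicClosure k)).obj X]).left x⟩
  obtain ⟨g, hg⟩ := AVAmpleLib.exists_dim ((bcF (AlgebraicClosure k)).obj X)
  exact ⟨g, (dim_pullback_eq X).symm.trans hg⟩

theorem euler_prBc (Ω : Type u) [Field Ω] [Algebra k Ω] {M : X.left.Modules} (hM : PicF.IsInvertible M) :
    @Curv2.euler Ω _ ((bcF Ω).obj X).left ⟨((bcF Ω).obj X).hom⟩ ((Scheme.Modules.pullback (prBc (X := X) Ω)).obj M) =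
      @Curv2.euler k _ X.left ⟨X.hom⟩ M := by
  letI : X.left.Over (Spec (CommRingCat.of k)) := ⟨X.hom⟩
  haveI : IsProper (X.left ↘ Spec (CommRingCat.of k)) := inferInstanceAs (IsProper X.hom)
  exact HilbPolyLib.euler_bc Ω (CurvLib.isCoh_of_isInvertible hM).1

/-- A module with non-zero Euler characteristic has cohomology in one degree only. -/
theorem exists_conc {g : ℕ} (hg : topologicalKrullDim X.left = (g : ℕ)) {M : X.left.Modules}
    (hM : PicF.IsInvertible M) (h : @Curv2.euler k _ X.left ⟨X.hom⟩ M ≠ 0) : ∃ i, i ≤ g ∧ Conc M i := by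
  let Ω := AlgebraicClosure k
  let B := (bcF Ω).obj X
  haveI : GrpObj B := Functor.grpObjObj
  haveI : IsProper B.hom := inferInstanceAs (IsProper (pullback.snd X.hom _))
  haveI : GeometricallyIntegral B.hom := inferInstanceAs (GeometricallyIntegral (pullback.snd X.hom _))
  have hMB := AmpleDevLib.isInvertible_pb (prBc (X := X) Ω) hM
  have hgB : topologicalKrullDim B.left = (g : ℕ) := (dim_pullback_eq X).trans hg
  have hnd : Set.Finite {a : 𝟙_ (Over (Spec (CommRingCat.of Ω))) ⟶ B | P hMB (AVAmpleLib.tR a) = clA hMB} :=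
    Classical.byContradiction fun hinf =>
      h ((euler_prBc Ω hM).symm.trans (AVRRLib.euler_eq_zero_of_degenerate (X := B) hMB hinf))
  obtain ⟨i, j, hij, hi, -, hv, -⟩ := AVIndexLib.exists_index hMB hgB hnd (clA_dual hMB)
  exact ⟨i, by omega, (AVIndexLib.conc_bc_iff Ω hM i).1 ⟨hv, hi⟩⟩

theorem natAbs_euler {M : X.left.Modules} {i : ℕ} (h : Conc M i) :
    (@Curv2.euler k _ X.left ⟨X.hom⟩ M).natAbs = @Module.finrank k (Coh.HH X.left M i) _ _
      (@Coh.moduleOver k _ X.left ⟨X.hom⟩ M i) := by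
  letI : X.left.Over (Spec (CommRingCat.of k)) := ⟨X.hom⟩
  haveI : IsProper (X.left ↘ Spec (CommRingCat.of k)) := ‹IsProper X.hom›
  rw [AVIndexLib.euler_of_concentrated (k := k) h.1, Int.natAbs_mul, Int.natAbs_pow]
  simp

theorem euler_ne_zero {M : X.left.Modules} (hM : PicF.IsInvertible M) {i : ℕ} (h : Conc M i) :
    @Curv2.euler k _ X.left ⟨X.hom⟩ M ≠ 0 := by
  letI : X.left.Over (Spec (CommRingCat.of k)) := ⟨X.hom⟩
  haveI : IsProper (X.left ↘ Spec (CommRingCat.of k)) := ‹IsProper X.hom›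
  haveI := CurvLib.finite_HH (k := k) (CurvLib.isCoh_of_isInvertible hM) i
  haveI : Nontrivial (Coh.HH X.left M i) := not_subsingleton_iff_nontrivial.1 h.2
  have := Module.finrank_pos (R := k) (M := Coh.HH X.left M i)
  intro h0
  have := natAbs_euler h
  rw [h0] at this
  simp at this
  omega

end AV

theorem natDegree_aeval_le {g : ℕ} (Q : MvPolynomial (Fin 2) ℚ) (hQ : Q.totalDegree ≤ g) (c : ℚ) :
    (MvPolynomial.aeval (![Polynomial.C c, Polynomial.C c * Polynomial.X] : Fin 2 → Polynomial ℚ) Q).natDegree ≤ g := by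
  rw [MvPolynomial.aeval_def, MvPolynomial.eval₂_eq']
  refine Polynomial.natDegree_sum_le_of_forall_le _ _ fun v hv => ?_
  rw [Fin.prod_univ_two]
  simp only [Matrix.cons_val_zero, Matrix.cons_val_one, ← map_pow, mul_pow, ← Polynomial.C_eq_algebraMap,
    ← _root_.mul_assoc, ← map_mul]
  refine (Polynomial.natDegree_C_mul_X_pow_le _ _).trans (le_trans ?_ ((MvPolynomial.le_totalDegree hv).trans hQ))
  rw [Finsupp.sum_fintype _ _ (fun _ => rfl), Fin.sum_univ_two]
  exact Nat.le_add_left _ _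

/-- The data of an abelian variety with an invertible and an ample module. -/
structure Setup (k : Type u) [Field k] where
  X : Over (Spec (CommRingCat.of k))
  grp : GrpObj X
  proper : IsProper X.hom
  geomInt : GeometricallyIntegral X.hom
  L : X.left.Modules
  H : X.left.Modules
  hL : PicF.IsInvertible L
  hH : CohB1.IsAmple H
  g : ℕ
  hg : topologicalKrullDim X.left = (g : ℕ)
  Φ : Polynomial ℚ
  hΦ : ∀ n : ℕ, Φ.eval (n : ℚ) =
    (@Curv2.euler k _ X.left ⟨X.hom⟩ (CohB1.tensorMod L (CohB1.tensorPow H n)) : ℚ)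

namespace Setup

attribute [local instance] Setup.grp Setup.proper Setup.geomInt

variable (S : Setup k)

instance : GrpObj S.X := S.grp
instance : IsProper S.X.hom := S.proper
instance : GeometricallyIntegral S.X.hom := S.geomInt
instance : IsIntegral S.X.left := GeometricallyIntegral.isIntegral_of_subsingleton S.X.hom

theorem exists_twist (n : ℕ) (m : ℤ) : ∃ (M : S.X.left.Modules) (hM : PicF.IsInvertible M),
    clA hM = n • clA S.hL + m • clA S.hH.1 := by
  obtain ⟨N, hN, eN⟩ := exists_clA_zsmul S.hH.1 m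
  exact ⟨_, _, (clA_tensor (AmpleThLib.tensorPow_isInvertible S.hL n) hN).trans (by rw [clA_pow, eN])⟩

/-- `n L + m H`. -/
def M (n : ℕ) (m : ℤ) : S.X.left.Modules := (S.exists_twist n m).choose

theorem hM (n : ℕ) (m : ℤ) : PicF.IsInvertible (S.M n m) := (S.exists_twist n m).choose_spec.choose

theorem cM (n : ℕ) (m : ℤ) : clA (S.hM n m) = n • clA S.hL + m • clA S.hH.1 :=
  (S.exists_twist n m).choose_spec.choose_spec

/-- Its Euler characteristic. -/
def χ (n : ℕ) (m : ℤ) : ℤ := @Curv2.euler k _ S.X.left ⟨S.X.hom⟩ (S.M n m)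

theorem χ_eq_chi (n : ℕ) (m : ℤ) : S.χ n m = chi S.X ((n : ℤ) • clA S.hL + m • clA S.hH.1) := by
  rw [natCast_zsmul, ← S.cM n m, chi_clA]
  rfl

theorem exists_Q : ∃ Q : MvPolynomial (Fin 2) ℚ, Q.totalDegree ≤ S.g ∧ ∀ a b : ℤ,
    (chi S.X (a • clA S.hL + b • clA S.hH.1) : ℚ) = MvPolynomial.eval ![(a : ℚ), (b : ℚ)] Q := by
  obtain ⟨Q, hQ, hQ'⟩ := exists_chiPoly S.hg (x := ![clA S.hL, clA S.hH.1]) (fun i => by
    fin_cases i
    · exact ⟨S.L, S.hL, rfl⟩
    · exact ⟨S.H, S.hH.1, rfl⟩)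
  refine ⟨Q, hQ, fun a b => ?_⟩
  have := hQ' ![a, b]
  simp only [Fin.sum_univ_two, Matrix.cons_val_zero, Matrix.cons_val_one] at this
  rw [this]
  congr 2
  funext i
  fin_cases i <;> simp

theorem natDegree_le_and_χ : S.Φ.natDegree ≤ S.g ∧
    ∀ (n : ℕ) (m : ℤ), 0 < n → (S.χ n m : ℚ) = (n : ℚ) ^ S.g * S.Φ.eval ((m : ℚ) / n) := by
  obtain ⟨Q, hQ, hQ'⟩ := S.exists_Q
  let p : ℕ → Polynomial ℚ := fun n =>
    MvPolynomial.aeval (![Polynomial.C (n : ℚ), Polynomial.C (n : ℚ) * Polynomial.X] : Fin 2 → Polynomial ℚ) Q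
  have hp : ∀ (n : ℕ) (t : ℚ), (p n).eval t = MvPolynomial.eval ![(n : ℚ), (n : ℚ) * t] Q := fun n t => by
    simp only [p]
    rw [← Polynomial.coe_evalRingHom, MvPolynomial.aeval_def, MvPolynomial.eval₂_comp_left,
      show (Polynomial.evalRingHom t).comp (algebraMap ℚ (Polynomial ℚ)) = RingHom.id ℚ from
        RingHom.ext fun q => by simp, MvPolynomial.eval₂_id]
    congr 2
    funext i
    fin_cases i <;> simp
  have hΦn : ∀ j : ℕ, S.Φ.eval (j : ℚ) = (chi S.X ((1 : ℤ) • clA S.hL + (j : ℤ) • clA S.hH.1) : ℚ) := fun j => by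
    rw [S.hΦ, one_zsmul, natCast_zsmul, ← clA_pow, ← clA_tensor, chi_clA]
    rfl
  have hpn : ∀ n : ℕ, p n = Polynomial.C ((n : ℚ) ^ S.g) * S.Φ := fun n =>
    HilbPolyLib.eq_of_eval_nat fun j => by
      rw [hp, Polynomial.eval_mul, Polynomial.eval_C, hΦn]
      have h := hQ' (n : ℤ) ((n : ℤ) * j)
      push_cast at h
      rw [← h]
      obtain ⟨M, hM, eM⟩ : (1 : ℤ) • clA S.hL + (j : ℤ) • clA S.hH.1 ∈ clRange S.X :=
        add_mem (zsmul_mem (show clA S.hL ∈ clRange S.X from ⟨_, _, rfl⟩) _)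
          (zsmul_mem (show clA S.hH.1 ∈ clRange S.X from ⟨_, _, rfl⟩) _)
      rw [← eM, show (n : ℤ) • clA S.hL + ((n : ℤ) * j) • clA S.hH.1 = (n : ℤ) • clA hM by
        rw [eM, smul_add, smul_smul, smul_smul, _root_.mul_one], AVRRLib.chi_zsmul S.hg hM]
      push_cast
      ring
  refine ⟨?_, fun n m hn => ?_⟩
  · have h1 : S.Φ = p 1 := by rw [hpn, Nat.cast_one, one_pow, map_one, _root_.one_mul]
    rw [h1]
    exact natDegree_aeval_le Q hQ (Nat.cast 1)
  · have h := congrArg (Polynomial.eval ((m : ℚ) / n)) (hpn n)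
    rw [hp, Polynomial.eval_mul, Polynomial.eval_C, mul_div_cancel₀ _ (by positivity : (n : ℚ) ≠ 0)] at h
    rw [← h, S.χ_eq_chi, hQ']
    simp

/-- The real polynomial. -/
def P : Polynomial ℝ := S.Φ.map (algebraMap ℚ ℝ)

theorem eval_P {n : ℕ} (hn : 0 < n) (m : ℤ) :
    (S.χ n m : ℝ) = (n : ℝ) ^ S.g * S.P.eval ((m : ℝ) / n) := by
  have h := congrArg (algebraMap ℚ ℝ) (S.natDegree_le_and_χ.2 n m hn)
  rw [map_mul, map_pow, map_intCast, map_natCast, ← Polynomial.eval₂_hom, ← Polynomial.eval_map, map_div₀,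
    map_intCast, map_natCast] at h
  exact h

theorem ne_zero_iff {n : ℕ} (hn : 0 < n) (m : ℤ) : S.χ n m ≠ 0 ↔ S.P.eval ((m : ℝ) / n) ≠ 0 := by
  rw [← Int.cast_ne_zero (α := ℝ), S.eval_P hn m, mul_ne_zero_iff]
  exact and_iff_right (by positivity)

open Classical in
/-- The index of `n L + m H`. -/
def idx (n : ℕ) (m : ℤ) : ℕ := if h : ∃ i, Conc (S.M n m) i then h.choose else 0

theorem idx_spec {n : ℕ} (hn : 0 < n) {m : ℤ} (h : S.P.eval ((m : ℝ) / n) ≠ 0) :
    S.idx n m ≤ S.g ∧ Conc (S.M n m) (S.idx n m) := by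
  obtain ⟨i, hi, hc⟩ := exists_conc S.hg (S.hM n m) ((S.ne_zero_iff hn m).2 h)
  have he : ∃ i, Conc (S.M n m) i := ⟨i, hc⟩
  rw [idx, dif_pos he]
  exact ⟨(he.choose_spec.unique hc).le.trans hi, he.choose_spec⟩

theorem idx_eq {n : ℕ} (hn : 0 < n) {m : ℤ} {i : ℕ} {M : S.X.left.Modules} (hM : PicF.IsInvertible M)
    (hc : Conc M i) (e : clA hM = n • clA S.hL + m • clA S.hH.1) :
    S.P.eval ((m : ℝ) / n) ≠ 0 ∧ S.idx n m = i := by
  have hc' : Conc (S.M n m) i := hc.of_clA (hM := hM) (hN := S.hM n m) (e.trans (S.cM n m).symm)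
  have h := (S.ne_zero_iff hn m).1 (euler_ne_zero (S.hM n m) hc')
  exact ⟨h, (S.idx_spec hn h).2.unique hc'⟩

theorem exists_indexData : ∃ D : IndexData S.P S.g, ∀ n m, D.ι n m = S.idx n m := by
  letI : S.X.left.Over (Spec (CommRingCat.of k)) := ⟨S.X.hom⟩
  haveI : IsProper (S.X.left ↘ Spec (CommRingCat.of k)) := inferInstanceAs (IsProper S.X.hom)
  obtain ⟨e, A, hA, eA⟩ := exists_ample_twist S.hL S.hH
  -- the family in the coordinates `(A, H)`
  have hfam : ∀ a b : ℤ, ∃ (W : S.X.left.Modules) (hW : PicF.IsInvertible W),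
      clA hW = a • clA hA.1 + b • clA S.hH.1 := fun a b => by
    obtain ⟨M₁, h₁, e₁⟩ := exists_clA_zsmul hA.1 a
    obtain ⟨M₂, h₂, e₂⟩ := exists_clA_zsmul S.hH.1 b
    exact ⟨_, _, (clA_tensor h₁ h₂).trans (by rw [e₁, e₂])⟩
  choose W hW cW using hfam
  have hiso : ∀ (n : ℕ) (m : ℤ), Nonempty (CohB1.tensorMod (W n (m - n * e)) (Coh.structureModule S.X.left) ≅
      S.M n m) := fun n m => by
    obtain ⟨i⟩ : Nonempty (W n (m - n * e) ≅ S.M n m) := by
      rw [← clA_eq_iff (hW _ _) (S.hM n m), cW, S.cM, eA, smul_add, ← natCast_zsmul (clA S.hH.1) e, smul_smul,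
        natCast_zsmul, add_assoc, ← add_smul, add_sub_cancel]
    exact ⟨HilbPolyLib.swapIso _ _ ≪≫ HilbPolyLib.unitLeft _ ≪≫ i⟩
  have hO := DevissLib.isCoh_structureModule S.X.left
  have hd : topologicalKrullDim (CohB1.support (Coh.structureModule S.X.left)) ≤ (S.g : ℕ) := by
    rw [← S.hg]; exact topologicalKrullDim_subspace_le _ _
  have hsize : ∀ (n : ℕ) (m : ℤ) (r : ℕ),
      ((size (n : ℤ) (m - n * e) : ℕ) : ℝ) ^ r ≤ ((e : ℝ) + 1) ^ r * ((n : ℝ) + |(m : ℝ)| + 1) ^ r := by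
    intro n m r
    rw [← mul_pow]
    refine pow_le_pow_left₀ (by positivity) ?_ r
    have h1 : |((m - n * e : ℤ) : ℝ)| ≤ |(m : ℝ)| + (n : ℝ) * e := by
      push_cast
      refine (abs_sub _ _).trans ?_
      rw [abs_of_nonneg (show (0 : ℝ) ≤ n * e by positivity)]
    have h2 : ((size (n : ℤ) (m - n * e) : ℕ) : ℝ) = n + |((m - n * e : ℤ) : ℝ)| + 1 := by
      simp only [size, Int.natAbs_natCast]
      push_cast [Nat.cast_natAbs]
      ring
    rw [h2]
    nlinarith [abs_nonneg (m : ℝ), show (0 : ℝ) ≤ e by positivity, mul_nonneg (show (0:ℝ) ≤ e by positivity) (abs_nonneg (m : ℝ))]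
  have habs : ∀ (n : ℕ) (m : ℤ), 0 < n → S.P.eval ((m : ℝ) / n) ≠ 0 →
      |S.P.eval ((m : ℝ) / n)| * (n : ℝ) ^ S.g =
        (HodgeIdxLib.hh k (CohB1.tensorMod (W n (m - n * e)) (Coh.structureModule S.X.left)) (S.idx n m) : ℕ) := by
    intro n m hn h
    rw [HodgeIdxLib.hh_congr (hiso n m).some]
    have h1 := natAbs_euler (X := S.X) (S.idx_spec hn h).2
    have h2 : |(S.χ n m : ℝ)| = |S.P.eval ((m : ℝ) / n)| * (n : ℝ) ^ S.g := by
      rw [S.eval_P hn m, abs_mul, abs_of_nonneg (show (0 : ℝ) ≤ (n : ℝ) ^ S.g by positivity), mul_comm]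
    rw [← h2, ← Int.cast_abs, Int.abs_eq_natAbs]
    exact_mod_cast h1
  have hzero : ∀ (n : ℕ) (m : ℤ) (p : ℕ), 0 < n → S.P.eval ((m : ℝ) / n) ≠ 0 → p ≠ S.idx n m →
      HodgeIdxLib.hh k (CohB1.tensorMod (W n (m - n * e)) (Coh.structureModule S.X.left)) p = 0 := by
    intro n m p hn h hp
    rw [HodgeIdxLib.hh_congr (hiso n m).some]
    haveI := (S.idx_spec hn h).2.1 p hp
    exact Module.finrank_zero_of_subsingleton
  refine ⟨IndexData.mk S.idx (fun n m hn h => (S.idx_spec hn h).1) ?_ ?_ ?_, fun _ _ => rfl⟩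
  · intro l n m hl hn h
    refine (S.idx_eq (Nat.mul_pos hl hn) (AmpleThLib.tensorPow_isInvertible (S.hM n m) l) ?_ ?_).2
    · exact AVIndexLib.conc_nsmul (AlgebraicClosure k) (S.hM n m) (S.idx_spec hn h).2 hl _ (clA_pow _ l)
    · rw [clA_pow (S.hM n m), S.cM, smul_add, smul_smul, ← natCast_zsmul (_ • _ : PicA S.X.left) l, smul_smul]
  · intro hg
    obtain ⟨c, C, hc, hstep⟩ := exists_bound_step (k := k) hA S.hH W hW cW hO hd hg
    refine ⟨c, C * (e + 1) ^ (S.g - 1), hc, fun n m hn h h' hne => ?_⟩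
    rw [habs n m hn h]
    have h0 := hzero n (m + c) (S.idx n m) hn h' (Ne.symm hne)
    have h1 : ((HodgeIdxLib.hh k (CohB1.tensorMod (W n (m - n * e)) (Coh.structureModule S.X.left)) (S.idx n m) : ℕ) : ℝ)
        ≤ C * ((size (n : ℤ) (m - n * e) : ℕ) : ℝ) ^ (S.g - 1) := by
      exact_mod_cast hstep (S.idx n m) n (m - n * e)
        (by rw [show m - (n : ℤ) * e + c = m + c - n * e by ring]; exact h0)
    refine h1.trans ((mul_le_mul_of_nonneg_left (hsize n m _) (Nat.cast_nonneg C)).trans (le_of_eq ?_))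
    push_cast; ring
  · intro r
    obtain ⟨T, C, hiter⟩ := exists_bound_iter (k := k) hA S.hH W hW cW r S.g _ hO hd
    refine ⟨T, C * (e + 1) ^ (S.g - r), fun n m hn h hr hs => ?_⟩
    rw [habs n m hn h]
    have h1 : ((HodgeIdxLib.hh k (CohB1.tensorMod (W n (m - n * e)) (Coh.structureModule S.X.left)) (S.idx n m) : ℕ) : ℝ)
        ≤ C * ((size (n : ℤ) (m - n * e) : ℕ) : ℝ) ^ (S.g - r) := by
      exact_mod_cast hiter (S.idx n m) n (m - n * e) hr fun s h3 hsT p hp hpi => by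
        obtain ⟨h', hdrop⟩ := hs s h3 hsT
        rw [show m - (n : ℤ) * e + s = m + s - n * e by ring]
        exact hzero n (m + s) p hn h' (by omega)
    refine h1.trans ((mul_le_mul_of_nonneg_left (hsize n m _) (Nat.cast_nonneg C)).trans (le_of_eq ?_))
    push_cast; ring

end Setup

end IdxRootLib

end
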