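import Groth.Agent.IdxRootLib.Cut
import Groth.Agent.CubeConsLib.Hom
import Groth.Agent.CurvLib.SupportVanish

/-!
# Cohomology of two-parameter twists of coherent modules grows at most like the dimension
-/

set_option autoImplicit false
set_option maxHeartbeats 1000000
set_option linter.style.haveILetI false
set_option backward.isDefEq.respectTransparency false
universe u

open CategoryTheory CategoryTheory.Limits AlgebraicGeometry
open CubeConsLib
open HodgeIdxLib (hh)
open HilbPolyLib (assocIso congrLeft congrRight swapIso)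

noncomputable section

namespace IdxRootLib

/-- The size of a twist. -/
def size (a b : ℤ) : ℕ := a.natAbs + b.natAbs + 1

/-- Walking a function in steps of length `c` with bounded increments. -/
theorem walk {f : ℤ → ℕ} {c B E n : ℕ} (hc : 0 < c) (hB : ∀ r : ℤ, 0 ≤ r → r < c → f r ≤ B)
    (hE : ∀ t : ℤ, t.natAbs ≤ n + 2 * c → f (t + c) ≤ f t + E ∧ f t ≤ f (t + c) + E) {a : ℤ}
    (ha : a.natAbs ≤ n) : f a ≤ B + (n + 1) * E := by
  have hc' : (0 : ℤ) < c := by exact_mod_cast hc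
  set r := a % c
  have hr0 : 0 ≤ r := Int.emod_nonneg _ hc'.ne'
  have hr1 : r < c := Int.emod_lt_of_pos _ hc'
  set q := a / (c : ℤ) with hq
  have haq : a = r + q * c := by rw [hq, mul_comm]; exact (Int.emod_add_mul_ediv a c).symm
  have hqc : q.natAbs * c ≤ n + c := by
    have h1 : (q * c).natAbs ≤ n + c := by omega
    rwa [Int.natAbs_mul, Int.natAbs_natCast] at h1
  have key : ∀ j : ℕ, j * c ≤ n + c → f (r + (j : ℤ) * c) ≤ B + j * E ∧ f (r - (j : ℤ) * c) ≤ B + j * E := by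
    intro j
    induction j with
    | zero => intro _; simpa using hB r hr0 hr1
    | succ j ih =>
      intro hj
      have hj' : j * c + c ≤ n + c := by rwa [Nat.succ_mul] at hj
      obtain ⟨h1, h2⟩ := ih (by omega)
      have hjz : ((j : ℤ) * c) = ((j * c : ℕ) : ℤ) := by push_cast; ring
      have e1 : r + ((j + 1 : ℕ) : ℤ) * c = r + (j : ℤ) * c + c := by push_cast; ring
      have e2 : r - ((j + 1 : ℕ) : ℤ) * c + c = r - (j : ℤ) * c := by push_cast; ring
      constructor
      · rw [e1]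
        refine ((hE _ (by omega)).1.trans (Nat.add_le_add_right h1 _)).trans ?_
        rw [Nat.succ_mul, Nat.add_assoc]
      · have h3 := (hE (r - ((j + 1 : ℕ) : ℤ) * c) (by push_cast; rw [add_mul, one_mul]; omega)).2
        rw [e2] at h3
        refine (h3.trans (Nat.add_le_add_right h2 _)).trans ?_
        rw [Nat.succ_mul, Nat.add_assoc]
  have hqn : q.natAbs ≤ n + 1 := by
    by_contra h
    have : (n + 2) * c ≤ q.natAbs * c := Nat.mul_le_mul_right c (by omega)
    have h2 : n + 1 ≤ (n + 1) * c := Nat.le_mul_of_pos_right _ hc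
    rw [show (n + 2) * c = (n + 1) * c + c from Nat.succ_mul _ _] at this
    omega
  obtain ⟨h1, h2⟩ := key q.natAbs hqc
  refine le_trans ?_ (Nat.add_le_add_left (Nat.mul_le_mul_right E hqn) B)
  rcases Int.natAbs_eq q with h | h
  · rwa [← h, ← haq] at h1
  · rw [show ((q.natAbs : ℕ) : ℤ) = -q by omega, neg_mul, sub_neg_eq_add, ← haq] at h2
    exact h2

variable {k : Type u} [Field k] {X : Scheme.{u}} [X.Over (Spec (CommRingCat.of k))]
  [IsProper (X ↘ Spec (CommRingCat.of k))]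

theorem ses_twist {T : X.Modules} (hT : PicF.IsInvertible T) {S : ShortComplex X.Modules} (hS : S.ShortExact)
    (h₁ : Coh.IsCoh S.X₁) (h₂ : Coh.IsCoh S.X₂) (h₃ : Coh.IsCoh S.X₃) (p : ℕ) :
    hh k (CohB1.tensorMod T S.X₂) p ≤ hh k (CohB1.tensorMod T S.X₁) p + hh k (CohB1.tensorMod T S.X₃) p ∧
    hh k (CohB1.tensorMod T S.X₃) p ≤ hh k (CohB1.tensorMod T S.X₂) p + hh k (CohB1.tensorMod T S.X₁) (p + 1) ∧
    hh k (CohB1.tensorMod T S.X₁) (p + 1) ≤
      hh k (CohB1.tensorMod T S.X₃) p + hh k (CohB1.tensorMod T S.X₂) (p + 1) ∧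
    hh k (CohB1.tensorMod T S.X₁) 0 ≤ hh k (CohB1.tensorMod T S.X₂) 0 :=
  HodgeIdxLib.ses_mk (k := k) ((CurvLib.tensorLeft' T).map S.f) ((CurvLib.tensorLeft' T).map S.g) _
    (HilbPolyLib.shortExact_tensor hT hS)
    (HodgeIdxLib.isCoh_twist hT h₁) (HodgeIdxLib.isCoh_twist hT h₂) (HodgeIdxLib.isCoh_twist hT h₃) p

variable (k) in
/-- The basic step: a cut gives exact sequences between twists. -/
theorem exists_step {H F : X.Modules} (hH : CohB1.IsAmple H) (hF : Coh.IsCoh F) (m : ℕ) :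
    ∃ (c : ℕ) (Q : X.Modules), m ≤ c ∧ Coh.IsCoh Q ∧
      (∀ d : ℕ, topologicalKrullDim (CohB1.support F) ≤ (d : ℕ) → topologicalKrullDim (CohB1.support Q) < (d : ℕ)) ∧
      ∀ (T T' : X.Modules) (hT : PicF.IsInvertible T) (hT' : PicF.IsInvertible T'),
        clA hT' = clA hT + c • clA hH.1 → ∀ p : ℕ,
          hh k (CohB1.tensorMod T' F) p ≤ hh k (CohB1.tensorMod T F) p + hh k (CohB1.tensorMod T Q) p ∧
          hh k (CohB1.tensorMod T Q) p ≤ hh k (CohB1.tensorMod T' F) p + hh k (CohB1.tensorMod T F) (p + 1) ∧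
          hh k (CohB1.tensorMod T F) (p + 1) ≤ hh k (CohB1.tensorMod T Q) p + hh k (CohB1.tensorMod T' F) (p + 1) ∧
          hh k (CohB1.tensorMod T F) 0 ≤ hh k (CohB1.tensorMod T' F) 0 := by
  obtain ⟨c, φ, hc, hm, hC, hdim⟩ := exists_cut k hH hF m
  refine ⟨c, cokernel φ, hc, hC, hdim, fun T T' hT hT' e p => ?_⟩
  have hP := AmpleThLib.tensorPow_isInvertible hH.1 c
  have hFP : Coh.IsCoh (CohB1.tensorMod F (CohB1.tensorPow H c)) := SerreVanLib.isCoh_tensor hF hP
  obtain ⟨i⟩ : Nonempty (T' ≅ CohB1.tensorMod T (CohB1.tensorPow H c)) := by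
    rw [← clA_eq_iff hT' (HilbPolyLib.isInvertible_tensor hT hP), clA_tensor hT hP, clA_pow hH.1, e]
  have hS : (ShortComplex.mk φ (cokernel.π φ) (cokernel.condition φ)).ShortExact :=
    { exact := ShortComplex.exact_cokernel φ, mono_f := hm
      epi_g := inferInstanceAs (Epi (cokernel.π φ)) }
  have hj : hh k (CohB1.tensorMod T (CohB1.tensorMod F (CohB1.tensorPow H c))) = hh k (CohB1.tensorMod T' F) :=
    funext fun q => HodgeIdxLib.hh_congr
      (congrRight T (swapIso F _) ≪≫ (assocIso _ _ _).symm ≪≫ congrLeft i.symm F) q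
  have hj' := fun q => congrFun hj q
  have key := ses_twist (k := k) hT hS hF hFP hC
  obtain ⟨h1, h2, h3, h4⟩ := key p
  exact ⟨(hj' p).symm.le.trans h1, h2.trans (Nat.add_le_add_right (hj' p).le _),
    h3.trans (Nat.add_le_add_left (hj' (p + 1)).le _), h4.trans (hj' 0).le⟩

variable {A B : X.Modules} (hA : CohB1.IsAmple A) (hB : CohB1.IsAmple B)
  (W : ℤ → ℤ → X.Modules) (hW : ∀ a b, PicF.IsInvertible (W a b))
  (cW : ∀ a b, clA (hW a b) = a • clA hA.1 + b • clA hB.1)

include hW cW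

theorem cW_right (a b : ℤ) (c : ℕ) : clA (hW a (b + c)) = clA (hW a b) + c • clA hB.1 := by
  rw [cW, cW, add_smul, natCast_zsmul, add_assoc]

theorem cW_left (a b : ℤ) (c : ℕ) : clA (hW (a + c) b) = clA (hW a b) + c • clA hA.1 := by
  rw [cW, cW, add_smul, natCast_zsmul, add_right_comm]

/-- **The growth bound.** -/
theorem exists_bound : ∀ (d : ℕ) (F : X.Modules), Coh.IsCoh F → topologicalKrullDim (CohB1.support F) ≤ (d : ℕ) →
    ∃ C : ℕ, ∀ (p : ℕ) (a b : ℤ), hh k (CohB1.tensorMod (W a b) F) p ≤ C * size a b ^ d := by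
  intro d
  induction d using Nat.strong_induction_on with
  | _ d IH =>
  intro F hF hd
  haveI := CurvLib.isNoetherian k (X := X)
  have cok : ∀ Q : X.Modules, Coh.IsCoh Q → topologicalKrullDim (CohB1.support Q) < (d : ℕ) →
      ∃ D : ℕ, (d = 0 → D = 0) ∧ ∀ (p : ℕ) (a b : ℤ),
        hh k (CohB1.tensorMod (W a b) Q) p * size a b ≤ D * size a b ^ d := by
    intro Q hQ hlt
    rcases Nat.eq_zero_or_pos d with rfl | hd0
    · refine ⟨0, fun _ => rfl, fun p a b => ?_⟩
      have he : CohB1.support Q = ∅ := by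
        by_contra hne
        exact absurd ((IntFunLib.nonneg_dim (Set.nonempty_iff_ne_empty.2 hne)).trans_lt hlt) (lt_irrefl _)
      rw [HodgeIdxLib.hh_eq_zero (DevissLib.isZero_of_support_empty
        ((HilbPolyLib.support_tensor (hW a b) _).trans he)) p]
      simp
    obtain ⟨e, rfl⟩ : ∃ e, d = e + 1 := ⟨d - 1, by omega⟩
    obtain ⟨D, hD⟩ := IH e (Nat.lt_succ_self e) Q hQ (IntFunLib.dim_le_iff.1 hlt)
    exact ⟨D, fun h => absurd h (Nat.succ_ne_zero e), fun p a b => by
      rw [pow_succ, ← mul_assoc]; exact Nat.mul_le_mul_right _ (hD p a b)⟩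
  obtain ⟨cA, QA, hcA, hQA, hdA, hsA⟩ := exists_step k hA hF 1
  obtain ⟨cB, QB, hcB, hQB, hdB, hsB⟩ := exists_step k hB hF 1
  obtain ⟨DA, hDA0, hDA⟩ := cok QA hQA (hdA d hd)
  obtain ⟨DB, hDB0, hDB⟩ := cok QB hQB (hdB d hd)
  let B₀ : ℕ := ∑ p ∈ Finset.range (d + 1), ∑ r ∈ Finset.range cA, ∑ s ∈ Finset.range cB,
    hh k (CohB1.tensorMod (W (r : ℤ) (s : ℤ)) F) p
  let K := 2 * cA + 2 * cB + 2
  refine ⟨B₀ + 2 * (DA + DB) * K ^ (d + 1), fun p a b => ?_⟩
  by_cases hp : d < p
  · haveI := CurvLib.subsingleton_HH_of_support_dim (CohB1.tensorMod (W a b) F)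
      (HodgeIdxLib.isCoh_twist (hW a b) hF).2 (d := d) (by rw [HilbPolyLib.support_tensor (hW a b)]; exact hd) p hp
    simp [HodgeIdxLib.hh, Module.finrank_zero_of_subsingleton]
  set N := size a b with hN
  let f : ℤ → ℤ → ℕ := fun x y => hh k (CohB1.tensorMod (W x y) F) p
  have hN0 : 0 < N := Nat.succ_pos _
  -- increments near `(a, b)`
  have inc : ∀ {D : ℕ} {Q : X.Modules} (q : ℕ),
      (∀ (p : ℕ) (a b : ℤ), hh k (CohB1.tensorMod (W a b) Q) p * size a b ≤ D * size a b ^ d) →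
      ∀ x y : ℤ, size x y ≤ K * N → hh k (CohB1.tensorMod (W x y) Q) q ≤ D * (K * N) ^ (d - 1) := by
    intro D Q q hD x y hxy
    rcases Nat.eq_zero_or_pos d with h0 | hd0
    · subst h0
      have := hD q x y
      simp only [pow_zero, mul_one, zero_tsub] at this ⊢
      exact (Nat.le_mul_of_pos_right _ (Nat.succ_pos _)).trans this
    · refine le_trans ?_ (Nat.mul_le_mul_left D (Nat.pow_le_pow_left hxy (d - 1)))
      refine Nat.le_of_mul_le_mul_right ?_ (show 0 < size x y from Nat.succ_pos _)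
      rw [mul_assoc, ← pow_succ, Nat.sub_add_cancel hd0]
      exact hD q x y
  have stepB : ∀ x y : ℤ, size x y ≤ K * N →
      f x (y + cB) ≤ f x y + DB * (K * N) ^ (d - 1) ∧ f x y ≤ f x (y + cB) + DB * (K * N) ^ (d - 1) := by
    intro x y hxy
    have h := hsB _ _ (hW x y) (hW x (y + cB)) (cW_right hA hB W hW cW x y cB)
    refine ⟨(h p).1.trans (Nat.add_le_add_left (inc p hDB x y hxy) _), ?_⟩
    cases hq : p with
    | zero => simp only [f, hq]; exact (h 0).2.2.2.trans (Nat.le_add_right _ _)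
    | succ q =>
      simp only [f, hq]
      exact (h q).2.2.1.trans ((Nat.add_comm _ _).le.trans (Nat.add_le_add_left (inc q hDB x y hxy) _))
  have stepA : ∀ x y : ℤ, size x y ≤ K * N →
      f (x + cA) y ≤ f x y + DA * (K * N) ^ (d - 1) ∧ f x y ≤ f (x + cA) y + DA * (K * N) ^ (d - 1) := by
    intro x y hxy
    have h := hsA _ _ (hW x y) (hW (x + cA) y) (cW_left hA hB W hW cW x y cA)
    refine ⟨(h p).1.trans (Nat.add_le_add_left (inc p hDA x y hxy) _), ?_⟩
    cases hq : p with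
    | zero => simp only [f, hq]; exact (h 0).2.2.2.trans (Nat.le_add_right _ _)
    | succ q =>
      simp only [f, hq]
      exact (h q).2.2.1.trans ((Nat.add_comm _ _).le.trans (Nat.add_le_add_left (inc q hDA x y hxy) _))
  have hK : K + N ≤ K * N + 1 := by
    have : 1 ≤ K := by omega
    nlinarith
  have hKN : K * N = (2 * cA + 2 * cB + 2) * N := rfl
  have h2 : 2 * cA + 2 * cB + N + N ≤ K * N := by
    rw [hKN]; nlinarith
  have hcol : ∀ r : ℤ, 0 ≤ r → r < cA → f r b ≤ B₀ + N * (DB * (K * N) ^ (d - 1)) := by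
    intro r hr0 hr1
    refine (walk (f := f r) (n := N - 1) (B := B₀) (hc := hcB) (fun s hs0 hs1 => ?_)
      (fun t ht => stepB r t (by simp only [size, hN] at *; omega)) (a := b)
      (by simp only [hN, size]; omega)).trans ?_
    · lift r to ℕ using hr0
      lift s to ℕ using hs0
      exact ((Finset.single_le_sum (f := fun s : ℕ => hh k (CohB1.tensorMod (W (r : ℤ) (s : ℤ)) F) p)
        (fun _ _ => Nat.zero_le _) (Finset.mem_range.2 (by omega : s < cB))).trans
        (Finset.single_le_sum (f := fun r : ℕ => ∑ s ∈ Finset.range cB, hh k (CohB1.tensorMod (W (r : ℤ) (s : ℤ)) F) p)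
          (fun _ _ => Nat.zero_le _) (Finset.mem_range.2 (by omega : r < cA)))).trans
        (Finset.single_le_sum (f := fun p => ∑ r ∈ Finset.range cA, ∑ s ∈ Finset.range cB,
            hh k (CohB1.tensorMod (W (r : ℤ) (s : ℤ)) F) p)
          (fun _ _ => Nat.zero_le _) (Finset.mem_range.2 (by omega : p < d + 1)))
    · rw [Nat.sub_add_cancel hN0]
  have hrow := walk (f := fun x => f x b) (n := N - 1) (hc := hcA) hcol
    (fun t ht => stepA t b (by simp only [size, hN] at *; omega)) (a := a) (by simp only [hN, size]; omega)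
  rw [Nat.sub_add_cancel hN0] at hrow
  refine hrow.trans ?_
  rw [add_mul B₀]
  have hB0 : B₀ ≤ B₀ * N ^ d := Nat.le_mul_of_pos_right _ (Nat.pow_pos hN0)
  suffices ∀ D, D ≤ DA + DB → (d = 0 → D = 0) → N * (D * (K * N) ^ (d - 1)) ≤ (DA + DB) * K ^ (d + 1) * N ^ d by
    have h1 := this DA (Nat.le_add_right _ _) hDA0
    have h2 := this DB (Nat.le_add_left _ _) hDB0
    have e : 2 * (DA + DB) * K ^ (d + 1) * N ^ d = 2 * ((DA + DB) * K ^ (d + 1) * N ^ d) := by ring
    omega
  intro D hD hD0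
  rcases Nat.eq_zero_or_pos d with h0 | hd0
  · subst h0; simp [hD0 rfl]
  · obtain ⟨e, rfl⟩ : ∃ e, d = e + 1 := ⟨d - 1, by omega⟩
    rw [Nat.add_sub_cancel, mul_pow, pow_succ N e,
      show N * (D * (K ^ e * N ^ e)) = D * K ^ e * (N ^ e * N) by ring]
    exact Nat.mul_le_mul_right _ (Nat.mul_le_mul hD (Nat.pow_le_pow_right (by omega) (by omega)))

/-- One step: vanishing after one twist bounds the cohomology by one degree less. -/
theorem exists_bound_step {d : ℕ} {F : X.Modules} (hF : Coh.IsCoh F)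
    (hd : topologicalKrullDim (CohB1.support F) ≤ (d : ℕ)) (hd0 : 0 < d) :
    ∃ c C : ℕ, 0 < c ∧ ∀ (i : ℕ) (a b : ℤ), hh k (CohB1.tensorMod (W a (b + c)) F) i = 0 →
      hh k (CohB1.tensorMod (W a b) F) i ≤ C * size a b ^ (d - 1) := by
  obtain ⟨c, Q, hc, hQ, hdQ, hs⟩ := exists_step k hB hF 1
  obtain ⟨C, hC⟩ := exists_bound (k := k) hA hB W hW cW (d - 1) Q hQ
    (IntFunLib.dim_le_iff.1 (by rw [Nat.sub_add_cancel hd0]; exact hdQ d hd))
  refine ⟨c, C, hc, fun i a b h0 => ?_⟩
  have h := hs _ _ (hW a b) (hW a (b + c)) (cW_right hA hB W hW cW a b c)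
  cases i with
  | zero => exact ((h 0).2.2.2.trans h0.le).trans (Nat.zero_le _)
  | succ i => exact (h i).2.2.1.trans (by rw [h0, add_zero]; exact hC i a b)

/-- Iterated steps: vanishing in a range of degrees lowers the order of growth accordingly. -/
theorem exists_bound_iter : ∀ (r d : ℕ) (F : X.Modules), Coh.IsCoh F →
    topologicalKrullDim (CohB1.support F) ≤ (d : ℕ) →
    ∃ S C : ℕ, ∀ (i : ℕ) (a b : ℤ), r ≤ i →
      (∀ s : ℕ, 3 ≤ s → s ≤ S → ∀ p, i < p + r → p ≤ i → hh k (CohB1.tensorMod (W a (b + s)) F) p = 0) →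
      hh k (CohB1.tensorMod (W a b) F) i ≤ C * size a b ^ (d - r) := by
  intro r
  induction r with
  | zero =>
    intro d F hF hd
    obtain ⟨C, hC⟩ := exists_bound (k := k) hA hB W hW cW d F hF hd
    exact ⟨0, C, fun i a b _ _ => hC i a b⟩
  | succ r ih =>
    intro d F hF hd
    obtain ⟨c, Q, hc, hQ, hdQ, hs⟩ := exists_step k hB hF 3
    have hQd : topologicalKrullDim (CohB1.support Q) ≤ ((d - 1 : ℕ) : WithBot ℕ∞) := by
      rcases Nat.eq_zero_or_pos d with rfl | hd0
      · exact (hdQ 0 hd).le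
      · exact IntFunLib.dim_le_iff.1 (by rw [Nat.sub_add_cancel hd0]; exact hdQ d hd)
    obtain ⟨S, C, hC⟩ := ih (d - 1) Q hQ hQd
    refine ⟨S + c, C, fun i a b hri hv => ?_⟩
    obtain ⟨i, rfl⟩ : ∃ j, i = j + 1 := ⟨i - 1, by omega⟩
    have h1 := (hs _ _ (hW a b) (hW a (b + c)) (cW_right hA hB W hW cW a b c) i).2.2.1
    have h2 := hv c hc (Nat.le_add_left _ _) (i + 1) (by omega) le_rfl
    rw [h2, add_zero] at h1
    refine h1.trans ?_
    rw [show d - (r + 1) = d - 1 - r by omega]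
    refine hC i a b (by omega) fun s hs3 hsS p hp hpi => Nat.le_zero.1 ?_
    refine ((hs _ _ (hW a (b + s)) (hW a (b + s + c)) (cW_right hA hB W hW cW a (b + s) c) p).2.1).trans ?_
    rw [show b + (s : ℤ) + c = b + ((s + c : ℕ) : ℤ) by push_cast; ring,
      hv (s + c) (by omega) (by omega) p (by omega) (by omega), hv s hs3 (by omega) (p + 1) (by omega) (by omega)]

end IdxRootLib

end
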