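import Groth.Agent.AssPointLib.Basic
import Groth.Agent.AmpleThLib.FiniteSet
import Groth.Agent.HilbPolyLib.Snapper
import Groth.Agent.HodgeIdxLib.Bound
import Groth.Agent.ExtTwistLib.Basic
import Groth.Agent.SerreVanLib.CurveAmple

/-!
# Cutting a coherent module by a section of an ample module through its associated points
-/

set_option autoImplicit false
set_option maxHeartbeats 1000000
set_option linter.style.haveILetI false
set_option backward.isDefEq.respectTransparency false
set_option backward.isDefEq.respectTransparency.types false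
universe u

open CategoryTheory CategoryTheory.Limits TopologicalSpace Opposite AlgebraicGeometry
open AmpleLib (res res_res res_smul shT shT_res GenAt GenOn germ_res)
open DevissLib (St gm gm_app gm_map exists_gm_eq)
open TwistLib (genSet)

noncomputable section

namespace IdxRootLib

variable {X : Scheme.{u}}

/-- A closed set without maximal points of a closed set has smaller dimension. -/
theorem dim_lt_of_maximal {T Y : Set X} (hT : IsClosed T) (hY : IsClosed Y) (hsub : T ⊆ Y)
    (h : ∀ y ∈ Y, (∀ z ∈ Y, z ⤳ y → z = y) → y ∉ T) {d : ℕ} (hd : topologicalKrullDim Y ≤ (d : ℕ)) :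
    topologicalKrullDim T < (d : ℕ) := by
  by_contra hcon
  obtain ⟨p, hp⟩ := Order.le_krullDim_iff.mp (not_lt.mp hcon)
  let f : T → Y := fun x => ⟨x.1, hsub x.2⟩
  have hf : Topology.IsInducing f :=
    (Topology.IsInducing.subtypeVal (t := T)).codRestrict fun x => hsub x.2
  let p' : LTSeries (IrreducibleCloseds Y) :=
    LTSeries.map p _ (IrreducibleCloseds.map_strictMono_of_isInducing hf)
  haveI : QuasiSober Y := hY.isClosedEmbedding_subtypeVal.quasiSober
  obtain ⟨Z, hZ, hle, hmax⟩ := exists_preirreducible (p'.last : Set Y) p'.last.isIrreducible.2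
  have hZi : IsIrreducible Z := ⟨p'.last.isIrreducible.1.mono hle, hZ⟩
  have hZc : IsClosed Z := by
    refine isClosed_of_closure_subset (hmax (closure Z) hZ.closure subset_closure).le
  obtain ⟨y, hy⟩ := QuasiSober.sober hZi hZc
  let top : IrreducibleCloseds Y := ⟨Z, hZi, hZc⟩
  have hin : ∀ z : Y, z ∈ (p'.last : Set Y) → (z : X) ∈ T := by
    intro z hz
    have hz' : z ∈ closure (f '' (p.last : Set T)) := hz
    refine (hT.preimage continuous_subtype_val).closure_subset_iff.mpr ?_ hz'
    rintro _ ⟨x, -, rfl⟩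
    exact x.2
  have hym : ∀ z ∈ Y, z ⤳ (y : X) → z = (y : X) := by
    intro z hz hzy
    have h1 : (⟨z, hz⟩ : Y) ⤳ y := Topology.IsInducing.subtypeVal.specializes_iff.1 hzy
    have h2 : Z ⊆ closure {(⟨z, hz⟩ : Y)} := by
      rw [← hy.def]
      exact closure_minimal (Set.singleton_subset_iff.2 h1.mem_closure) isClosed_closure
    have h3 := hmax _ isIrreducible_singleton.closure.2 h2
    have h4 : y ⤳ (⟨z, hz⟩ : Y) := by
      rw [specializes_iff_mem_closure, hy.def, ← h3]
      exact subset_closure rfl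
    exact congrArg Subtype.val (h4.antisymm h1).eq.symm
  have hlt : p'.last < top := by
    refine lt_of_le_of_ne hle fun he => h y y.2 hym (hin y ?_)
    rw [he]
    show y ∈ Z
    rw [← hy.def]
    exact subset_closure rfl
  have := (Order.LTSeries.length_le_krullDim (p'.snoc top hlt)).trans hd
  simp only [RelSeries.snoc_length] at this
  rw [show p'.length = d from hp] at this
  exact absurd (Nat.cast_le.1 this) (by omega)

/-- `N ⊗ f`. -/
def mapRight (N : X.Modules) {A B : X.Modules} (f : A ⟶ B) : CohB1.tensorMod N A ⟶ CohB1.tensorMod N B :=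
  ((DCoh.tensorBi (X := X)).obj N).map f

theorem mapRight_shT (N : X.Modules) {A B : X.Modules} (f : A ⟶ B) (V : X.Opens) (a : Γ(N, V)) (b : Γ(A, V)) :
    (mapRight N f).app V (shT a b) = shT a (f.app V b) :=
  KFlatLib.tensorBi_map₂_shTm N f a b

/-- Multiplication by a section. -/
theorem exists_mul (F : X.Modules) {P : X.Modules} (σ : Γ(P, ⊤)) :
    ∃ φ : F ⟶ CohB1.tensorMod F P,
      ∀ (V : X.Opens) (a : Γ(F, V)), φ.app V a = shT a (res P (le_top : V ≤ ⊤) σ) := by
  obtain ⟨u, hu, hu'⟩ := SerreVanLib.exists_unit_iso F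
  refine ⟨inv u ≫ mapRight F (QCohLib.unitHom P σ), fun V a => ?_⟩
  have h2 : u.app V (shT a (show Γ(Coh.structureModule X, V) from (1 : Γ(X, V)))) = a :=
    (hu' V a _).trans (one_smul Γ(X, V) a)
  have h1 : (inv u).app V a = shT a (show Γ(Coh.structureModule X, V) from (1 : Γ(X, V))) := by
    have h3 := congrArg ((inv u).app V) h2
    rw [← ConcreteCategory.comp_apply, ← Scheme.Modules.Hom.comp_app, IsIso.hom_inv_id] at h3
    exact h3.symm
  rw [Scheme.Modules.Hom.comp_app, ConcreteCategory.comp_apply, h1, mapRight_shT]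
  refine congrArg (shT a) ?_
  rw [QCohLib.unitHom_app]
  exact one_smul Γ(X, V) _

/-- Multiplication by a section is bijective where the section generates. -/
theorem bijective_st_mul {F P : X.Modules} (hP : PicF.IsInvertible P) {σ : Γ(P, ⊤)}
    {φ : F ⟶ CohB1.tensorMod F P}
    (hφ : ∀ (V : X.Opens) (a : Γ(F, V)), φ.app V a = shT a (res P (le_top : V ≤ ⊤) σ)) {x : X}
    (hx : x ∈ genSet hP σ) : Function.Bijective ((St x).map φ).hom := by
  have hgen : ∀ W : X.Opens, W ≤ genSet hP σ → GenOn P (res P (le_top : W ≤ ⊤) σ) := fun W hW => by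
    have := (TwistLib.genSet_genOn hP σ).res hW
    rwa [res_res] at this
  constructor
  · rw [injective_iff_map_eq_zero]
    intro a ha
    obtain ⟨U, hxU, s, rfl⟩ := exists_gm_eq F x a
    rw [gm_app, hφ] at ha
    obtain ⟨W, hxW, i, i', he⟩ := TopCat.Presheaf.germ_eq (CohB1.tensorMod F P).presheaf x hxU hxU _ 0
      (ha.trans (map_zero _).symm)
    let W' : X.Opens := W ⊓ genSet hP σ
    have h0 : shT (res F (inf_le_left.trans i.le : W' ≤ U) s) (res P (le_top : W' ≤ ⊤) σ) = 0 := by
      have h1 : res (CohB1.tensorMod F P) i.le (shT s (res P (le_top : U ≤ ⊤) σ)) = 0 :=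
        he.trans (map_zero _)
      have h2 := congrArg (res (CohB1.tensorMod F P) (inf_le_left : W' ≤ W)) h1
      rw [res_res, shT_res, res_res] at h2
      exact h2.trans (map_zero _)
    have h3 : res F (inf_le_left.trans i.le : W' ≤ U) s = 0 :=
      PnCohLib.shT_right_injective (hgen W' inf_le_right) (h0.trans
        (map_zero (PnCohLib.shTLin (M := F) (res P (le_top : W' ≤ ⊤) σ))).symm)
    have h4 := congrArg (gm F x (show x ∈ W' from ⟨hxW, hx⟩)) h3
    erw [gm_map, DevissLib.gm_zero] at h4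
    exact h4
  · intro b
    obtain ⟨U, hxU, t, rfl⟩ := exists_gm_eq (CohB1.tensorMod F P) x b
    let W : X.Opens := U ⊓ genSet hP σ
    obtain ⟨a, ha⟩ := (ExtTwistLib.shT_right_bijective (M := F) (hgen W inf_le_right)).2
      (res (CohB1.tensorMod F P) (inf_le_left : W ≤ U) t)
    refine ⟨gm F x (show x ∈ W from ⟨hxU, hx⟩) a, ?_⟩
    rw [gm_app, hφ]
    refine (congrArg _ ha).trans ?_
    exact gm_map _ _ _ _ _

variable {k : Type u} [Field k] [X.Over (Spec (CommRingCat.of k))] [IsProper (X ↘ Spec (CommRingCat.of k))]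

variable (k) in
include k in
/-- **Cutting.** -/
theorem exists_cut {H F : X.Modules} (hH : CohB1.IsAmple H) (hF : Coh.IsCoh F) (m : ℕ) :
    ∃ (c : ℕ) (φ : F ⟶ CohB1.tensorMod F (CohB1.tensorPow H c)), m ≤ c ∧ Mono φ ∧ Coh.IsCoh (cokernel φ) ∧
      ∀ d : ℕ, topologicalKrullDim (CohB1.support F) ≤ (d : ℕ) →
        topologicalKrullDim (CohB1.support (cokernel φ)) < (d : ℕ) := by
  haveI := CurvLib.isNoetherian k (X := X)
  haveI : Coh.IsQCoh F := hF.1
  have hfin : {x : X | Curv2.IsWeakAssPoint F x}.Finite := by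
    have := AssPointLib.finite_assPoints hF.2 ⊤ isCompact_univ
    exact this.subset fun x hx => ⟨trivial, hx⟩
  obtain ⟨n, V, hn, hV, hzV, -, -⟩ := AmpleThLib.exists_locus_finset hH.1 hH hfin ⊤ fun _ _ => trivial
  obtain ⟨σ, hσ⟩ := hV.mul_right (k := m + 1) (Nat.succ_pos m)
  have hP := AmpleThLib.tensorPow_isInvertible hH.1 (n * (m + 1))
  obtain ⟨φ, hφ⟩ := exists_mul F σ
  have hbij : ∀ x : X, x ∈ V → Function.Bijective ((St x).map φ).hom := fun x hx =>
    bijective_st_mul hP hφ (hσ ▸ hx)
  have hFP : Coh.IsCoh (CohB1.tensorMod F (CohB1.tensorPow H (n * (m + 1)))) := SerreVanLib.isCoh_tensor hF hP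
  have hK : Coh.IsCoh (kernel φ) := QCohLib.isCoh_kernel φ hF hFP.1
  have hC : Coh.IsCoh (cokernel φ) := QCohLib.isCoh_cokernel φ hF.1 hFP
  haveI : Coh.IsQCoh (kernel φ) := hK.1
  have hz : IsZero (kernel φ) := AssPointLib.isZero_iff_no_weak.2 fun y hy => by
    have h1 : Curv2.IsWeakAssPoint F y :=
      (AssPointLib.weak_shortExact (S := DevissLib.kerImSeq φ) (DevissLib.kerImSeq_shortExact φ)).2 hy
    exact DevissLib.notMem_support_kernel φ y (hbij y (hzV h1)).1 (AssPointLib.weak_iff_mem_support hy)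
  refine ⟨n * (m + 1), φ, le_trans (Nat.le_succ m) (Nat.le_mul_of_pos_left _ hn),
    Preadditive.mono_of_isZero_kernel φ hz, hC, fun d hd => ?_⟩
  refine dim_lt_of_maximal (QCohLib.isClosed_support _ hC.2) (QCohLib.isClosed_support _ hF.2)
    ((DevissLib.support_epi (cokernel.π φ)).trans ?_) (fun y hy hmax hyT => ?_) hd
  · rw [DevissLib.support_iso (HilbPolyLib.swapIso F _), HilbPolyLib.support_tensor hP]
  · exact DevissLib.notMem_support_cokernel φ y (hbij y (hzV (AssPointLib.weak_of_maximal hy hmax))).2 hyT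

end IdxRootLib

end
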