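import Groth.Agent.IdxRootLib.Fam
import Groth.Agent.SerreVanLib.Main

/-!
# The index and the roots of the Hilbert polynomial
-/

set_option autoImplicit false
set_option maxHeartbeats 1000000
set_option maxRecDepth 8000
set_option backward.isDefEq.respectTransparency false
set_option linter.style.haveILetI false

noncomputable section

universe u

open CategoryTheory CategoryTheory.Limits MonoidalCategory CartesianMonoidalCategory MonObj AlgebraicGeometry
open CubeConsLib
open AVIndexLib (Conc)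

namespace IdxRootLib

variable {k : Type u} [Field k] (S : Setup k)

theorem eval_zero_ne {i : ℕ} (h : Conc S.L i) : S.P.eval 0 ≠ 0 ∧ S.idx 1 0 = i := by
  have := S.idx_eq (n := 1) Nat.one_pos (m := 0) S.hL h (by rw [one_smul, zero_smul, add_zero])
  simpa using this

theorem eval_one_ne {i : ℕ} {M : S.X.left.Modules} (e : M ≅ CohB1.tensorMod S.L S.H) (h : Conc M i) :
    S.P.eval 1 ≠ 0 ∧ S.idx 1 1 = i := by
  have := S.idx_eq (n := 1) Nat.one_pos (m := 1) (HilbPolyLib.isInvertible_tensor S.hL S.hH.1) (h.iso e)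
    (by rw [one_smul, one_smul, clA_tensor])
  simpa using this

/-- The behaviour at infinity. -/
theorem exists_ends (hP : S.P ≠ 0) : ∃ N : ℕ, 0 < N ∧ (∀ t ∈ S.P.roots, |t| < N) ∧
    S.idx 1 (N : ℤ) = 0 ∧ S.idx 1 (-(N : ℤ)) = S.g := by
  letI : S.X.left.Over (Spec (CommRingCat.of k)) := ⟨S.X.hom⟩
  haveI : IsProper (S.X.left ↘ Spec (CommRingCat.of k)) := inferInstanceAs (IsProper S.X.hom)
  have hL' := MiscFlat6.dual_isInvertible S.hL
  obtain ⟨N₁, hN₁⟩ := SerreVanLib.exists_vanishing (S.X.left ↘ Spec (CommRingCat.of k)) S.hH.1 S.hH S.L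
    (CurvLib.isCoh_of_isInvertible S.hL)
  obtain ⟨N₂, hN₂⟩ := SerreVanLib.exists_vanishing (S.X.left ↘ Spec (CommRingCat.of k)) S.hH.1 S.hH
    (MiscFlat6.dual S.L) (CurvLib.isCoh_of_isInvertible hL')
  obtain ⟨N₃, hN₃⟩ := exists_nat_gt (∑ t ∈ S.P.roots.toFinset, |t|)
  set N := N₁ + N₂ + N₃ + 1 with hN
  have hroot : ∀ t ∈ S.P.roots, |t| < N := fun t ht => by
    refine (lt_of_le_of_lt (Finset.single_le_sum (f := fun t => |t|) (fun _ _ => abs_nonneg _)
      (Multiset.mem_toFinset.2 ht)) hN₃).trans_le ?_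
    exact_mod_cast (by omega : N₃ ≤ N)
  have hne : ∀ x : ℤ, x = (N : ℤ) ∨ x = -(N : ℤ) → S.P.eval ((x : ℝ) / ((1 : ℕ) : ℝ)) ≠ 0 := by
    intro x hx h0
    have := hroot _ ((Polynomial.mem_roots hP).2 h0)
    rcases hx with rfl | rfl <;> simp at this
  refine ⟨N, Nat.succ_pos _, hroot, ?_, ?_⟩
  · obtain ⟨-, hc⟩ := S.idx_spec Nat.one_pos (hne _ (Or.inl rfl))
    have hT := HilbPolyLib.isInvertible_tensor S.hL (AmpleThLib.tensorPow_isInvertible S.hH.1 N)
    have hc' : Conc _ _ := hc.of_clA (hM := S.hM 1 _) (hN := hT)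
      (by rw [S.cM, clA_tensor S.hL (AmpleThLib.tensorPow_isInvertible S.hH.1 N), clA_pow S.hH.1, one_smul,
        natCast_zsmul])
    by_contra h
    exact hc'.2 (hN₁ N (by omega) _ (Nat.pos_of_ne_zero h))
  · obtain ⟨hle, hc⟩ := S.idx_spec Nat.one_pos (hne _ (Or.inr rfl))
    have hT := HilbPolyLib.isInvertible_tensor hL' (AmpleThLib.tensorPow_isInvertible S.hH.1 N)
    obtain ⟨-, hc'⟩ := AVIndexLib.conc_neg (AlgebraicClosure k) S.hg (S.hM 1 _) hc hT
      (by rw [S.cM, clA_tensor hL' (AmpleThLib.tensorPow_isInvertible S.hH.1 N), clA_pow S.hH.1, clA_dual,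
        one_smul, neg_smul, natCast_zsmul, neg_add, neg_neg])
    by_contra h
    exact hc'.2 (hN₂ N (by omega) _ (by omega))

theorem exists_root_of_ne {i i' : ℕ} (h : Conc S.L i) {M : S.X.left.Modules} (e : M ≅ CohB1.tensorMod S.L S.H)
    (h' : Conc M i') (hne : i ≠ i') : ∃ t : ℝ, 0 ≤ t ∧ t ≤ 1 ∧ S.P.eval t = 0 := by
  by_contra hno
  obtain ⟨D, hD⟩ := S.exists_indexData
  obtain ⟨-, rfl⟩ := eval_zero_ne S h
  obtain ⟨-, rfl⟩ := eval_one_ne S e h'
  refine hne ?_
  rw [← hD, ← hD]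
  exact D.eq_of_ne_zero (α := 0) (β := 1) (fun t ht h0 => hno ⟨t, ht.1, ht.2, h0⟩) Nat.one_pos Nat.one_pos
    ⟨by norm_num, by norm_num⟩ ⟨by norm_num, by norm_num⟩

theorem le_add_mult {i i' : ℕ} (h : Conc S.L i) {M : S.X.left.Modules} (e : M ≅ CohB1.tensorMod S.L S.H)
    (h' : Conc M i') {τ : ℝ} (huniq : ∀ t : ℝ, 0 ≤ t → t ≤ 1 → S.P.eval t = 0 → t = τ) :
    i ≤ i' + S.P.rootMultiplicity τ := by
  classical
  obtain ⟨D, hD⟩ := S.exists_indexData
  obtain ⟨h0, rfl⟩ := eval_zero_ne S h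
  obtain ⟨h1, rfl⟩ := eval_one_ne S e h'
  have hP : S.P ≠ 0 := fun he => h0 (by rw [he, Polynomial.eval_zero])
  have := D.le_add_card hP Nat.one_pos Nat.one_pos (m := 0) (m' := 1) (by norm_num) (by simpa using h0)
    (by simpa using h1)
  rw [hD, hD] at this
  refine this.trans (Nat.add_le_add_left ?_ _)
  rw [← Multiset.card_replicate (S.P.rootMultiplicity τ) τ]
  refine Multiset.card_le_card (Multiset.le_iff_count.2 fun t => ?_)
  rw [Multiset.count_filter, Multiset.count_replicate]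
  split_ifs with ht hτ
  · subst hτ; rw [Polynomial.count_roots]
  · by_contra hc
    obtain ⟨-, hroot⟩ := Polynomial.mem_roots'.1 (Multiset.count_ne_zero.1 (Nat.ne_of_gt (not_le.1 hc)))
    norm_num at ht
    exact hτ (huniq t ht.1.le ht.2.le hroot).symm
  all_goals exact Nat.zero_le _

theorem roots_real {i : ℕ} (h : Conc S.L i) : Multiset.card S.P.roots = S.Φ.natDegree ∧
    i = Multiset.card (S.P.roots.filter fun t => 0 < t) := by
  classical
  obtain ⟨D, hD⟩ := S.exists_indexData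
  obtain ⟨h0, rfl⟩ := eval_zero_ne S h
  have hP : S.P ≠ 0 := fun he => h0 (by rw [he, Polynomial.eval_zero])
  obtain ⟨N, hN, hroot, hpos, hneg⟩ := exists_ends S hP
  have hNR : (0 : ℝ) < N := by exact_mod_cast hN
  have hne : ∀ x : ℝ, x = (N : ℝ) ∨ x = -(N : ℝ) → S.P.eval x ≠ 0 := by
    intro x hx h0'
    have := hroot _ ((Polynomial.mem_roots hP).2 h0')
    rcases hx with rfl | rfl <;> simp at this
  have h1 := D.le_add_card hP Nat.one_pos Nat.one_pos (m := 0) (m' := (N : ℤ)) (by simpa using hNR)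
    (by simpa using h0) (by simpa using hne _ (Or.inl rfl))
  have h2 := D.le_add_card hP Nat.one_pos Nat.one_pos (m := -(N : ℤ)) (m' := 0) (by simpa using hNR)
    (by simpa using hne _ (Or.inr rfl)) (by simpa using h0)
  rw [hD, hD, hpos] at h1
  rw [hD, hD, hneg] at h2
  have e1 : (S.P.roots.filter fun t => (((0 : ℤ) : ℝ) / ((1 : ℕ) : ℝ)) < t ∧ t < ((N : ℤ) : ℝ) / ((1 : ℕ) : ℝ)) =
      S.P.roots.filter fun t => 0 < t := Multiset.filter_congr fun t ht => by
    have := hroot t ht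
    rw [abs_lt] at this
    norm_num
    exact fun _ => this.2
  have h3 : (S.P.roots.filter fun t => 0 < t).card +
      (S.P.roots.filter fun t => (((-(N : ℤ)) : ℤ) : ℝ) / ((1 : ℕ) : ℝ) < t ∧ t < ((0 : ℤ) : ℝ) / ((1 : ℕ) : ℝ)).card ≤
        S.P.roots.card := by
    rw [← Multiset.card_add]
    refine Multiset.card_le_card (Multiset.le_iff_count.2 fun t => ?_)
    rw [Multiset.count_add, Multiset.count_filter, Multiset.count_filter]
    split_ifs with ha hb <;> try omega
    norm_num at hb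
    linarith [hb.2]
  have h4 : S.P.roots.card ≤ S.Φ.natDegree := (Polynomial.card_roots' _).trans (Polynomial.natDegree_map_le)
  have h5 := S.natDegree_le_and_χ.1
  rw [e1] at h1
  constructor <;> omega

end IdxRootLib

end
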